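import Cfsg.Agent.Lib.Helper96.LG.Model

/-! # The bracket on `LG G` and the `LieRing` instance (helper96) -/

set_option autoImplicit false

namespace Cfsg.Agent.Lib.Helper96.LG

open scoped commutatorElement

universe u
variable {G : Type u} [Group G]

theorem exists_ad (n : ℕ) (g : G) (hg : g ∈ gm G n) :
    ∃ ψ : LG G →+ LG G, ∀ j y (hy : y ∈ gm G j), ψ (e j y hy) = e (n + j + 1) ⁅g, y⁆ (gm_comm hg hy) := by
  apply exists_lift (fun j y hy => e (n + j + 1) ⁅g, y⁆ (gm_comm hg hy))
  · intro j y z hy hz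
    have h1 : ⁅g, y * z⁆ = ⁅g, y⁆ * (y * ⁅g, z⁆ * y⁻¹) := by
      simp only [commutatorElement_def]; group
    rw [e_congr rfl h1 _ (mul_mem (gm_comm hg hy) (gm_conj (gm_comm hg hz) y)),
      e_mul _ _ _ (gm_comm hg hy) (gm_conj (gm_comm hg hz) y), e_conj]
  · intro j y hy
    exact e_of_mem' _ _ _ (gm_comm (i := n) (j := j + 1) hg hy)

noncomputable def ad (n : ℕ) (g : G) (hg : g ∈ gm G n) : LG G →+ LG G :=
  Classical.choose (exists_ad n g hg)

theorem ad_e (n : ℕ) (g : G) (hg : g ∈ gm G n) (j : ℕ) (y : G) (hy : y ∈ gm G j) :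
    ad n g hg (e j y hy) = e (n + j + 1) ⁅g, y⁆ (gm_comm hg hy) :=
  Classical.choose_spec (exists_ad n g hg) j y hy

theorem exists_brk : ∃ B : LG G →+ LG G →+ LG G, ∀ n g (hg : g ∈ gm G n), B (e n g hg) = ad n g hg := by
  apply exists_lift (fun n g hg => ad n g hg)
  · intro n g h hg hh
    apply hom_ext
    intro j y hy
    rw [AddMonoidHom.add_apply, ad_e, ad_e, ad_e]
    have h1 : ⁅g * h, y⁆ = (g * ⁅h, y⁆ * g⁻¹) * ⁅g, y⁆ := by
      simp only [commutatorElement_def]; group
    rw [e_congr rfl h1 _ (mul_mem (gm_conj (gm_comm hh hy) g) (gm_comm hg hy)),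
      e_mul _ _ _ (gm_conj (gm_comm hh hy) g) (gm_comm hg hy), e_conj, add_comm]
  · intro n g hg
    apply hom_ext
    intro j y hy
    rw [ad_e, AddMonoidHom.zero_apply]
    apply e_of_mem'
    have h := gm_comm hg hy
    rwa [show n + 1 + j + 1 = n + j + 1 + 1 by omega] at h

noncomputable def brk : LG G →+ LG G →+ LG G := Classical.choose exists_brk

theorem brk_e (n : ℕ) (g : G) (hg : g ∈ gm G n) (j : ℕ) (y : G) (hy : y ∈ gm G j) :
    brk (e n g hg) (e j y hy) = e (n + j + 1) ⁅g, y⁆ (gm_comm hg hy) := by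
  unfold brk
  rw [Classical.choose_spec exists_brk n g hg, ad_e]

theorem brk_skew (x y : LG G) : brk x y + brk y x = 0 := by
  revert y
  refine ind (P := fun x => ∀ y, brk x y + brk y x = 0) ?_ ?_ ?_ ?_ x
  · intro y
    rw [map_zero, map_zero, AddMonoidHom.zero_apply, add_zero]
  · intro a b ha hb y
    rw [map_add, map_add, AddMonoidHom.add_apply]
    have h1 : brk a y + brk b y + (brk y a + brk y b) = (brk a y + brk y a) + (brk b y + brk y b) := by
      abel
    rw [h1, ha, hb, add_zero]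
  · intro a ha y
    rw [map_neg, map_neg, AddMonoidHom.neg_apply, ← neg_add, ha, neg_zero]
  · intro n g hg y
    refine ind (P := fun y => brk (e n g hg) y + brk y (e n g hg) = 0) ?_ ?_ ?_ ?_ y
    · rw [map_zero, map_zero, AddMonoidHom.zero_apply, add_zero]
    · intro a b ha hb
      rw [map_add, map_add, AddMonoidHom.add_apply]
      have h1 : brk (e n g hg) a + brk (e n g hg) b + (brk a (e n g hg) + brk b (e n g hg)) =
          (brk (e n g hg) a + brk a (e n g hg)) + (brk (e n g hg) b + brk b (e n g hg)) := by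
        abel
      rw [h1, ha, hb, add_zero]
    · intro a ha
      rw [map_neg, map_neg, AddMonoidHom.neg_apply, ← neg_add, ha, neg_zero]
    · intro j y hy
      rw [brk_e, brk_e]
      have h1 : ⁅y, g⁆ = ⁅g, y⁆⁻¹ := (commutatorElement_inv g y).symm
      rw [e_congr (show j + n + 1 = n + j + 1 by omega) h1 _ (inv_mem (gm_comm hg hy)),
        e_inv _ _ (gm_comm hg hy), add_neg_cancel]

theorem brk_self (x : LG G) : brk x x = 0 := by
  refine ind (P := fun x => brk x x = 0) ?_ ?_ ?_ ?_ x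
  · simp only [map_zero]
  · intro a b ha hb
    simp only [map_add, AddMonoidHom.add_apply, ha, hb]
    have h1 := brk_skew a b
    have h2 : 0 + brk b a + (brk a b + 0) = brk a b + brk b a := by abel
    rw [h2, h1]
  · intro a ha
    simp only [map_neg, AddMonoidHom.neg_apply, ha, neg_zero]
  · intro n g hg
    rw [brk_e, e_congr rfl (commutatorElement_self g) _ (one_mem _), e_one]

theorem brk_swap (x y : LG G) : brk x y = - brk y x := eq_neg_of_add_eq_zero_left (brk_skew x y)

/-- the Jacobi expression -/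
noncomputable def jac (x y z : LG G) : LG G := brk z (brk x y) + brk y (brk z x) + brk x (brk y z)

theorem jac_gen (i : ℕ) (x : G) (hx : x ∈ gm G i) (j : ℕ) (y : G) (hy : y ∈ gm G j) (k : ℕ) (z : G)
    (hz : z ∈ gm G k) : jac (e i x hx) (e j y hy) (e k z hz) = 0 := by
  have hA : brk (e j y hy) (brk (e k z hz) (e i x hx)) =
      brk (e j y hy) (brk (e k z⁻¹ (inv_mem hz)) (e i x⁻¹ (inv_mem hx))) := by
    rw [e_inv k z hz, e_inv i x hx]
    simp only [map_neg, AddMonoidHom.neg_apply, neg_neg]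
  have hB : brk (e i x hx) (brk (e j y hy) (e k z hz)) =
      brk (e i x⁻¹ (inv_mem hx)) (brk (e j y⁻¹ (inv_mem hy)) (e k z hz)) := by
    rw [e_inv i x hx, e_inv j y hy]
    simp only [map_neg, AddMonoidHom.neg_apply, neg_neg]
  unfold jac
  rw [hA, hB]
  simp only [brk_e]
  have hAm := gm_comm hy (gm_comm (inv_mem hz) (inv_mem hx))
  have hBm := gm_comm (inv_mem hx) (gm_comm (inv_mem hy) hz)
  obtain ⟨m, hm⟩ : ∃ m, m = k + (i + j + 1) + 1 := ⟨_, rfl⟩
  have hAm' : ⁅y, ⁅z⁻¹, x⁻¹⁆⁆ ∈ gm G m := by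
    rw [hm, show k + (i + j + 1) + 1 = j + (k + i + 1) + 1 by omega]; exact hAm
  have hBm' : ⁅x⁻¹, ⁅y⁻¹, z⁆⁆ ∈ gm G m := by
    rw [hm, show k + (i + j + 1) + 1 = i + (j + k + 1) + 1 by omega]; exact hBm
  have hid : ⁅z, ⁅x, y⁆⁆ = ((x * z) * ⁅y, ⁅z⁻¹, x⁻¹⁆⁆⁻¹ * (x * z)⁻¹) *
      ((x * y) * ⁅x⁻¹, ⁅y⁻¹, z⁆⁆⁻¹ * (x * y)⁻¹) := by
    simp only [commutatorElement_def]; group
  rw [e_congr hm.symm hid _ (mul_mem (gm_conj (inv_mem hAm') _) (gm_conj (inv_mem hBm') _)),
    e_mul _ _ _ (gm_conj (inv_mem hAm') _) (gm_conj (inv_mem hBm') _), e_conj _ _ (inv_mem hAm'),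
    e_conj _ _ (inv_mem hBm'), e_inv _ _ hAm', e_inv _ _ hBm',
    e_congr (show j + (k + i + 1) + 1 = m by omega) rfl _ hAm',
    e_congr (show i + (j + k + 1) + 1 = m by omega) rfl _ hBm']
  abel

theorem jac_add1 (a b y z : LG G) : jac (a + b) y z = jac a y z + jac b y z := by
  unfold jac; simp only [map_add, AddMonoidHom.add_apply]; abel
theorem jac_add2 (x a b z : LG G) : jac x (a + b) z = jac x a z + jac x b z := by
  unfold jac; simp only [map_add, AddMonoidHom.add_apply]; abel
theorem jac_add3 (x y a b : LG G) : jac x y (a + b) = jac x y a + jac x y b := by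
  unfold jac; simp only [map_add, AddMonoidHom.add_apply]; abel
theorem jac_neg1 (a y z : LG G) : jac (-a) y z = - jac a y z := by
  unfold jac; simp only [map_neg, AddMonoidHom.neg_apply]; abel
theorem jac_neg2 (x a z : LG G) : jac x (-a) z = - jac x a z := by
  unfold jac; simp only [map_neg, AddMonoidHom.neg_apply]; abel
theorem jac_neg3 (x y a : LG G) : jac x y (-a) = - jac x y a := by
  unfold jac; simp only [map_neg, AddMonoidHom.neg_apply]; abel

theorem jac_zero (x y z : LG G) : jac x y z = 0 := by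
  have h1 : ∀ (j : ℕ) (y : G) (hy : y ∈ gm G j) (k : ℕ) (z : G) (hz : z ∈ gm G k) (x : LG G),
      jac x (e j y hy) (e k z hz) = 0 := by
    intro j y hy k z hz x
    refine ind (P := fun x => jac x (e j y hy) (e k z hz) = 0) ?_ ?_ ?_ ?_ x
    · unfold jac; simp
    · intro a b ha hb
      rw [jac_add1, ha, hb, add_zero]
    · intro a ha
      rw [jac_neg1, ha, neg_zero]
    · intro i x hx
      exact jac_gen i x hx j y hy k z hz
  have h2 : ∀ (k : ℕ) (z : G) (hz : z ∈ gm G k) (x y : LG G), jac x y (e k z hz) = 0 := by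
    intro k z hz x y
    refine ind (P := fun y => jac x y (e k z hz) = 0) ?_ ?_ ?_ ?_ y
    · unfold jac; simp
    · intro a b ha hb
      rw [jac_add2, ha, hb, add_zero]
    · intro a ha
      rw [jac_neg2, ha, neg_zero]
    · intro j y hy
      exact h1 j y hy k z hz x
  refine ind (P := fun z => jac x y z = 0) ?_ ?_ ?_ ?_ z
  · unfold jac; simp
  · intro a b ha hb
    rw [jac_add3, ha, hb, add_zero]
  · intro a ha
    rw [jac_neg3, ha, neg_zero]
  · intro k z hz
    exact h2 k z hz x y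

theorem brk_leibniz (x y z : LG G) : brk x (brk y z) = brk (brk x y) z + brk y (brk x z) := by
  have h := jac_zero x y z
  unfold jac at h
  rw [brk_swap z (brk x y), brk_swap z x, map_neg] at h
  have h2 : brk x (brk y z) = brk (brk x y) z + brk y (brk x z) +
      (-brk (brk x y) z + -brk y (brk x z) + brk x (brk y z)) := by abel
  rw [h2, h, add_zero]

noncomputable instance instLieRingLG : LieRing (LG G) :=
  { (instAddCommGroupLG : AddCommGroup (LG G)) with
    bracket := fun x y => brk x y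
    add_lie := fun x y z => by
      show brk (x + y) z = brk x z + brk y z
      rw [map_add, AddMonoidHom.add_apply]
    lie_add := fun x y z => by
      show brk x (y + z) = brk x y + brk x z
      rw [map_add]
    lie_self := fun x => brk_self x
    leibniz_lie := fun x y z => brk_leibniz x y z }

theorem lie_def (x y : LG G) : ⁅x, y⁆ = brk x y := rfl

theorem lie_e (n : ℕ) (g : G) (hg : g ∈ gm G n) (j : ℕ) (y : G) (hy : y ∈ gm G j) :
    ⁅e n g hg, e j y hy⁆ = e (n + j + 1) ⁅g, y⁆ (gm_comm hg hy) := brk_e n g hg j y hy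

end Cfsg.Agent.Lib.Helper96.LG
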