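import Cfsg.Agent.Lib.Helper96.LG.Phi
import Cfsg.Agent.Lib.Helper84.HKK.Descent

/-! # Transfer from Lie rings to groups (helper96) -/

set_option autoImplicit false

namespace Cfsg.Agent.Lib.Helper96.LG

open scoped commutatorElement
open Cfsg.Agent.Lib.Helper6.HKK (lnb)

universe u
variable {G : Type u} [Group G]

/-- If every Lie ring with a fixed-point-free-like automorphism of order `p` has all left-normed
brackets of length `h` zero, then a finite nilpotent group with a fixed-point-free automorphism of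
order `p` has `γ h = ⊥`. -/
theorem transfer [Finite G] [Group.IsNilpotent G] {p : ℕ} (hp : p.Prime) (α : MulAut G)
    (hα : orderOf α = p) (hfpf : ∀ g : G, α g = g → g = 1) (h : ℕ)
    (H : ∀ (L : Type u) [LieRing L] (φ : L →+ L), (∀ x y, φ ⁅x, y⁆ = ⁅φ x, φ y⁆) →
      (∀ x, φ^[p] x = x) → (∀ x, ∑ j ∈ Finset.range p, φ^[j] x = 0) →
      (∀ x : L, p • x = 0 → x = 0) → ∀ (x : L) (l : List L), l.length = h → lnb x l = 0) :
    (⊤ : Subgroup G).lowerCentralSeries h = ⊥ := by
  have hαp : α ^ p = 1 := by rw [← hα]; exact pow_orderOf_eq_one α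
  have hcop : Nat.Coprime p (Nat.card G) :=
    (Nat.Prime.coprime_iff_not_dvd hp).2 (Cfsg.Agent.Lib.Helper30.LCS.fpf_coprime α hfpf hp hα)
  have hL := H (LG G) (phi α) (phi_lie α) (phi_pow α hαp) (phi_sum α hfpf hαp)
    (fun x hx => no_tor hcop x hx)
  refine Cfsg.Agent.Lib.Helper84.HKK.lcs_eq_bot_of_lnb (L := LG G) (fun n g hg => e n g hg) ?_ ?_ ?_ h hL
  · intro n g g' hg hg' hgg'
    exact e_mul n g g' hg hg'
  · intro n g hg h0
    exact detect n g hg h0
  · intro n g hg b hb hgb
    exact lie_e n g hg 0 b hb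

end Cfsg.Agent.Lib.Helper96.LG
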