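import Mathlib
import Cfsg.Agent.Lib.Helper30.LCS

/-!
# The associated Lie ring of the lower central series, as a quotient of a free abelian group
(helper96; hedge for part (B) of the HKK farm, S3779)

`LG G` = free abelian group on the pairs `(n, g)`, `g ∈ γ n`, modulo `(n, g h) = (n, g) + (n, h)` and
`(n, g) = 0` for `g ∈ γ (n+1)`.  No dependent quotient types, no casts.
-/

set_option autoImplicit false

namespace Cfsg.Agent.Lib.Helper96.LG

open scoped commutatorElement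

universe u
variable {G : Type u} [Group G]

abbrev gm (G : Type u) [Group G] (n : ℕ) : Subgroup G := (⊤ : Subgroup G).lowerCentralSeries n

theorem gm_anti {m n : ℕ} (h : m ≤ n) : gm G n ≤ gm G m := Subgroup.lowerCentralSeries_antitone _ h

theorem gm_succ_le (n : ℕ) : gm G (n + 1) ≤ gm G n := gm_anti (Nat.le_succ n)

theorem gm_comm {i j : ℕ} {x y : G} (hx : x ∈ gm G i) (hy : y ∈ gm G j) :
    ⁅x, y⁆ ∈ gm G (i + j + 1) :=
  Cfsg.Agent.Lib.Helper30.LCS.lcs_comm_le i j (Subgroup.commutator_mem_commutator hx hy)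

theorem gm_zero (g : G) : g ∈ gm G 0 := Subgroup.mem_top g

theorem gm_conj {n : ℕ} {c : G} (hc : c ∈ gm G n) (t : G) : t * c * t⁻¹ ∈ gm G n := by
  have h1 : ⁅t, c⁆ ∈ gm G (0 + n + 1) := gm_comm (gm_zero t) hc
  have h2 : t * c * t⁻¹ = ⁅t, c⁆ * c := by rw [commutatorElement_def]; group
  rw [h2]
  exact mul_mem (gm_anti (by omega) h1) hc

/-- generators -/
abbrev XX (G : Type u) [Group G] : Type u := Σ n : ℕ, ↥(gm G n)

abbrev FF (G : Type u) [Group G] : Type u := FreeAbelianGroup (XX G)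

def gen (n : ℕ) (g : G) (hg : g ∈ gm G n) : FF G := FreeAbelianGroup.of ⟨n, ⟨g, hg⟩⟩

def rel (G : Type u) [Group G] : AddSubgroup (FF G) := AddSubgroup.closure
  ({z | ∃ (n : ℕ) (g h : G) (hg : g ∈ gm G n) (hh : h ∈ gm G n),
      z = gen n (g * h) (mul_mem hg hh) - gen n g hg - gen n h hh} ∪
   {z | ∃ (n : ℕ) (g : G) (hg : g ∈ gm G (n + 1)), z = gen n g (gm_succ_le n hg)})

/-- the associated Lie ring (as an abelian group) -/
def LG (G : Type u) [Group G] : Type u := FF G ⧸ rel G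

noncomputable instance instAddCommGroupLG : AddCommGroup (LG G) :=
  inferInstanceAs (AddCommGroup (FF G ⧸ rel G))

/-- the class of `g ∈ γ n` in degree `n` -/
def e (n : ℕ) (g : G) (hg : g ∈ gm G n) : LG G := (QuotientAddGroup.mk (gen n g hg) : FF G ⧸ rel G)

theorem e_mul (n : ℕ) (g h : G) (hg : g ∈ gm G n) (hh : h ∈ gm G n) :
    e n (g * h) (mul_mem hg hh) = e n g hg + e n h hh := by
  have h1 : gen n (g * h) (mul_mem hg hh) - gen n g hg - gen n h hh ∈ rel G :=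
    AddSubgroup.subset_closure (Or.inl ⟨n, g, h, hg, hh, rfl⟩)
  have h2 : ((gen n (g * h) (mul_mem hg hh) - gen n g hg - gen n h hh : FF G) : FF G ⧸ rel G) = 0 :=
    (QuotientAddGroup.eq_zero_iff _).2 h1
  have h3 : e n (g * h) (mul_mem hg hh) - e n g hg - e n h hh = 0 := h2
  rw [sub_sub, sub_eq_zero] at h3
  exact h3

theorem e_of_mem (n : ℕ) (g : G) (hg : g ∈ gm G (n + 1)) : e n g (gm_succ_le n hg) = 0 := by
  have h1 : gen n g (gm_succ_le n hg) ∈ rel G :=
    AddSubgroup.subset_closure (Or.inr ⟨n, g, hg, rfl⟩)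
  exact (QuotientAddGroup.eq_zero_iff _).2 h1

theorem e_congr {m n : ℕ} (h : m = n) {g g' : G} (hgg : g = g') (hm : g ∈ gm G m)
    (hn : g' ∈ gm G n) : e m g hm = e n g' hn := by
  subst h; subst hgg; rfl

theorem e_of_mem' (n : ℕ) (g : G) (hg : g ∈ gm G n) (hg' : g ∈ gm G (n + 1)) : e n g hg = 0 :=
  e_of_mem n g hg'

theorem e_one (n : ℕ) : e n (1 : G) (one_mem _) = 0 := e_of_mem' n 1 _ (one_mem _)

theorem e_inv (n : ℕ) (g : G) (hg : g ∈ gm G n) : e n g⁻¹ (inv_mem hg) = - e n g hg := by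
  have h1 := e_mul n g g⁻¹ hg (inv_mem hg)
  rw [e_congr rfl (mul_inv_cancel g) _ (one_mem _), e_one] at h1
  exact (neg_eq_of_add_eq_zero_right h1.symm).symm

theorem e_conj (n : ℕ) (c : G) (hc : c ∈ gm G n) (t : G) :
    e n (t * c * t⁻¹) (gm_conj hc t) = e n c hc := by
  have h1 : ⁅t, c⁆ ∈ gm G (n + 1) := by
    have h := gm_comm (gm_zero t) hc
    rwa [show 0 + n + 1 = n + 1 by omega] at h
  have h2 : t * c * t⁻¹ = ⁅t, c⁆ * c := by rw [commutatorElement_def]; group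
  rw [e_congr rfl h2 _ (mul_mem (gm_succ_le n h1) hc), e_mul n _ _ (gm_succ_le n h1) hc,
    e_of_mem n _ h1, zero_add]

theorem e_pow (n : ℕ) (g : G) (hg : g ∈ gm G n) (k : ℕ) :
    e n (g ^ k) (pow_mem hg k) = k • e n g hg := by
  induction k with
  | zero => rw [zero_smul, e_congr rfl (pow_zero g) _ (one_mem _), e_one]
  | succ k ih =>
    rw [e_congr rfl (pow_succ g k) _ (mul_mem (pow_mem hg k) hg), e_mul n _ _ (pow_mem hg k) hg, ih,
      succ_nsmul]

theorem ind {P : LG G → Prop} (h0 : P 0) (hadd : ∀ a b, P a → P b → P (a + b))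
    (hneg : ∀ a, P a → P (-a)) (hgen : ∀ n g hg, P (e n g hg)) : ∀ x, P x := by
  intro x
  obtain ⟨f, rfl⟩ := QuotientAddGroup.mk_surjective (s := rel G) x
  refine FreeAbelianGroup.induction_on f h0 ?_ ?_ ?_
  · rintro ⟨n, ⟨g, hg⟩⟩
    exact hgen n g hg
  · rintro a ha
    exact hneg _ ha
  · intro a b ha hb
    exact hadd _ _ ha hb

theorem exists_lift {M : Type*} [AddCommGroup M] (f : ∀ (n : ℕ) (g : G), g ∈ gm G n → M)
    (hmul : ∀ n g h hg hh, f n (g * h) (mul_mem hg hh) = f n g hg + f n h hh)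
    (hker : ∀ n g (hg : g ∈ gm G (n + 1)), f n g (gm_succ_le n hg) = 0) :
    ∃ φ : LG G →+ M, ∀ n g hg, φ (e n g hg) = f n g hg := by
  obtain ⟨φ0, hφ0def⟩ : ∃ φ0 : FF G →+ M,
      φ0 = FreeAbelianGroup.lift (fun a : XX G => f a.1 a.2.1 a.2.2) := ⟨_, rfl⟩
  have hφ0 : ∀ n g hg, φ0 (gen n g hg) = f n g hg := by
    intro n g hg
    rw [hφ0def]
    exact FreeAbelianGroup.lift_apply_of _ _
  have hle : rel G ≤ φ0.ker := by
    unfold rel
    rw [AddSubgroup.closure_le]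
    rintro z (⟨n, g, h, hg, hh, rfl⟩ | ⟨n, g, hg, rfl⟩)
    · rw [SetLike.mem_coe, AddMonoidHom.mem_ker, map_sub, map_sub, hφ0, hφ0, hφ0, hmul n g h hg hh]
      abel
    · rw [SetLike.mem_coe, AddMonoidHom.mem_ker, hφ0, hker n g hg]
  exact ⟨QuotientAddGroup.lift (rel G) φ0 hle, fun n g hg => hφ0 n g hg⟩

theorem hom_ext {M : Type*} [AddCommGroup M] {φ ψ : LG G →+ M}
    (h : ∀ n g hg, φ (e n g hg) = ψ (e n g hg)) : φ = ψ :=
  AddMonoidHom.ext fun x => ind (P := fun x => φ x = ψ x) (by rw [map_zero, map_zero])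
    (fun a b ha hb => by rw [map_add, map_add, ha, hb]) (fun a ha => by rw [map_neg, map_neg, ha]) h x

end Cfsg.Agent.Lib.Helper96.LG
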