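import Cfsg.Agent.Lib.Helper96.LG.Brk

/-! # The endomorphism of `LG G` induced by an automorphism; detection (helper96) -/

set_option autoImplicit false

namespace Cfsg.Agent.Lib.Helper96.LG

open scoped commutatorElement

universe u
variable {G : Type u} [Group G]

theorem gm_aut (α : MulAut G) {n : ℕ} {g : G} (hg : g ∈ gm G n) : α g ∈ gm G n := by
  have h : (gm G n).Characteristic := inferInstance
  exact (Subgroup.characteristic_iff_le_comap.1 h α) hg

theorem exists_phi (α : MulAut G) :
    ∃ φ : LG G →+ LG G, ∀ n g (hg : g ∈ gm G n), φ (e n g hg) = e n (α g) (gm_aut α hg) := by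
  apply exists_lift (fun n g hg => e n (α g) (gm_aut α hg))
  · intro n g h hg hh
    rw [e_congr rfl (map_mul α g h) _ (mul_mem (gm_aut α hg) (gm_aut α hh)),
      e_mul _ _ _ (gm_aut α hg) (gm_aut α hh)]
  · intro n g hg
    exact e_of_mem' _ _ _ (gm_aut α hg)

noncomputable def phi (α : MulAut G) : LG G →+ LG G := Classical.choose (exists_phi α)

theorem phi_e (α : MulAut G) (n : ℕ) (g : G) (hg : g ∈ gm G n) :
    phi α (e n g hg) = e n (α g) (gm_aut α hg) := Classical.choose_spec (exists_phi α) n g hg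

theorem phi_lie (α : MulAut G) (x y : LG G) : phi α ⁅x, y⁆ = ⁅phi α x, phi α y⁆ := by
  revert y
  refine ind (P := fun x => ∀ y, phi α ⁅x, y⁆ = ⁅phi α x, phi α y⁆) ?_ ?_ ?_ ?_ x
  · intro y
    rw [zero_lie, map_zero, zero_lie]
  · intro a b ha hb y
    rw [add_lie, map_add, map_add, add_lie, ha, hb]
  · intro a ha y
    rw [neg_lie, map_neg, map_neg, neg_lie, ha]
  · intro n g hg y
    refine ind (P := fun y => phi α ⁅e n g hg, y⁆ = ⁅phi α (e n g hg), phi α y⁆) ?_ ?_ ?_ ?_ y
    · rw [lie_zero, map_zero, lie_zero]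
    · intro a b ha hb
      rw [lie_add, map_add, map_add, lie_add, ha, hb]
    · intro a ha
      rw [lie_neg, map_neg, map_neg, lie_neg, ha]
    · intro j y hy
      rw [lie_e, phi_e, phi_e, phi_e, lie_e]
      exact e_congr rfl (map_commutatorElement α g y) _ _

theorem phi_iter_e (α : MulAut G) (k : ℕ) (n : ℕ) (g : G) (hg : g ∈ gm G n) :
    (phi α)^[k] (e n g hg) = e n ((α ^ k) g) (gm_aut (α ^ k) hg) := by
  induction k with
  | zero => exact e_congr rfl (by simp) _ _
  | succ k ih =>
    rw [Function.iterate_succ_apply', ih, phi_e]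
    exact e_congr rfl (by rw [pow_succ', MulAut.mul_apply]) _ _

theorem phi_pow (α : MulAut G) {p : ℕ} (hα : α ^ p = 1) (x : LG G) : (phi α)^[p] x = x := by
  refine ind (P := fun x => (phi α)^[p] x = x) ?_ ?_ ?_ ?_ x
  · exact iterate_map_zero _ _
  · intro a b ha hb
    rw [iterate_map_add, ha, hb]
  · intro a ha
    rw [iterate_map_neg, ha]
  · intro n g hg
    rw [phi_iter_e]
    exact e_congr rfl (by rw [hα, MulAut.one_apply]) _ _

theorem gm_list (α : MulAut G) {n : ℕ} {g : G} (hg : g ∈ gm G n) (k : ℕ) :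
    ((List.range k).map (fun j => (α ^ j) g)).prod ∈ gm G n := by
  apply Subgroup.list_prod_mem
  intro x hx
  obtain ⟨j, _, rfl⟩ := List.mem_map.1 hx
  exact gm_aut _ hg

theorem sum_iter_e (α : MulAut G) (n : ℕ) (g : G) (hg : g ∈ gm G n) (k : ℕ) :
    ∑ j ∈ Finset.range k, (phi α)^[j] (e n g hg) =
      e n ((List.range k).map (fun j => (α ^ j) g)).prod (gm_list α hg k) := by
  induction k with
  | zero =>
    rw [Finset.sum_range_zero]
    exact (e_one n).symm.trans (e_congr rfl (by simp) _ _)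
  | succ k ih =>
    rw [Finset.sum_range_succ, ih, phi_iter_e, ← e_mul]
    exact e_congr rfl (by rw [List.range_succ, List.map_append, List.prod_append]; simp) _ _

theorem phi_sum [Finite G] (α : MulAut G) (hfpf : ∀ g : G, α g = g → g = 1) {p : ℕ} (hα : α ^ p = 1)
    (x : LG G) : ∑ j ∈ Finset.range p, (phi α)^[j] x = 0 := by
  refine ind (P := fun x => ∑ j ∈ Finset.range p, (phi α)^[j] x = 0) ?_ ?_ ?_ ?_ x
  · apply Finset.sum_eq_zero
    intro j _
    exact iterate_map_zero _ _
  · intro a b ha hb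
    simp only [iterate_map_add]
    rw [Finset.sum_add_distrib, ha, hb, add_zero]
  · intro a ha
    simp only [iterate_map_neg]
    rw [Finset.sum_neg_distrib, ha, neg_zero]
  · intro n g hg
    rw [sum_iter_e, e_congr rfl (Cfsg.Agent.Lib.Helper30.LCS.fpf_prod α hfpf hα g) _ (one_mem _), e_one]

theorem card_smul [Finite G] (x : LG G) : Nat.card G • x = 0 := by
  refine ind (P := fun x => Nat.card G • x = 0) ?_ ?_ ?_ ?_ x
  · rw [smul_zero]
  · intro a b ha hb
    rw [smul_add, ha, hb, add_zero]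
  · intro a ha
    rw [smul_neg, ha, neg_zero]
  · intro n g hg
    rw [← e_pow, e_congr rfl (pow_card_eq_one' (x := g)) _ (one_mem _), e_one]

theorem no_tor [Finite G] {p : ℕ} (hp : Nat.Coprime p (Nat.card G)) (x : LG G) (hx : p • x = 0) :
    x = 0 := by
  obtain ⟨a, b, hab⟩ := Nat.isCoprime_iff_coprime.2 hp
  have h1 : ((a * (p : ℤ) + b * (Nat.card G : ℤ)) : ℤ) • x = x := by rw [hab, one_smul]
  rw [add_smul, mul_smul, mul_smul, natCast_zsmul, natCast_zsmul, hx, card_smul, smul_zero, smul_zero,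
    add_zero] at h1
  exact h1.symm

/-! ### detection -/

abbrev QQ (G : Type u) [Group G] (n : ℕ) : Type u := ↥(gm G n) ⧸ (gm G (n + 1)).subgroupOf (gm G n)

theorem QQ_comm (n : ℕ) (a b : QQ G n) : a * b = b * a := by
  obtain ⟨a, rfl⟩ := QuotientGroup.mk_surjective a
  obtain ⟨b, rfl⟩ := QuotientGroup.mk_surjective b
  rw [← QuotientGroup.mk_mul, ← QuotientGroup.mk_mul, QuotientGroup.eq, Subgroup.mem_subgroupOf]
  have h1 : (((a * b)⁻¹ * (b * a) : ↥(gm G n)) : G) = ⁅(b : G)⁻¹, (a : G)⁻¹⁆ := by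
    rw [commutatorElement_def]
    push_cast
    group
  rw [h1]
  exact gm_anti (by omega) (gm_comm (inv_mem b.2) (inv_mem a.2))

noncomputable instance instCommGroupQQ (n : ℕ) : CommGroup (QQ G n) :=
  { (inferInstance : Group (QQ G n)) with mul_comm := QQ_comm n }

theorem detect (n : ℕ) (g : G) (hg : g ∈ gm G n) (h0 : e n g hg = 0) : g ∈ gm G (n + 1) := by
  classical
  obtain ⟨φ, hφ⟩ := exists_lift (G := G) (M := Additive (QQ G n))
    (fun m x hx => if h : m = n then Additive.ofMul (QuotientGroup.mk ⟨x, h ▸ hx⟩ : QQ G n) else 0)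
    (by
      intro m x y hx hy
      by_cases h : m = n
      · subst h
        simp only [dif_pos]
        rfl
      · simp only [dif_neg h, add_zero])
    (by
      intro m x hx
      by_cases h : m = n
      · subst h
        simp only [dif_pos]
        have h1 : (QuotientGroup.mk ⟨x, gm_succ_le m hx⟩ : QQ G m) = 1 := by
          rw [QuotientGroup.eq_one_iff, Subgroup.mem_subgroupOf]
          exact hx
        rw [h1]
        rfl
      · simp only [dif_neg h])
  have h1 := hφ n g hg
  rw [h0, map_zero, dif_pos rfl] at h1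
  have h2 : (QuotientGroup.mk ⟨g, hg⟩ : QQ G n) = 1 := Additive.ofMul.injective h1.symm
  rw [QuotientGroup.eq_one_iff, Subgroup.mem_subgroupOf] at h2
  exact h2

end Cfsg.Agent.Lib.Helper96.LG
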